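import Mathlib
import Groth.Prelude.Def_Flat
import Groth.Prelude.Def_CAlg2
import Groth.Prelude.Def_Found
import Groth.Agent.Lib.Helper2.NormFin.Main
import Groth.Agent.Lib.Helper2.NormY.Main
import Groth.Agent.Lib.Helper4.UnivHomeoNorm1
import Groth.Agent.Lib.Helper4.NormalizationField3
import Groth.Agent.Lib.Helper4.GeomUnibranchIC1
import Groth.Agent.Lib.Helper9.UnivHomeo2

/-!
# The normalization of a geometrically unibranch integral scheme in a purely inseparable extension
of its function field is a universal homeomorphism (helper2)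
-/

set_option autoImplicit false
set_option backward.isDefEq.respectTransparency.types false
set_option synthInstance.maxHeartbeats 400000
set_option maxHeartbeats 4000000
set_option linter.style.haveILetI false
set_option linter.unusedSectionVars false
set_option linter.unusedVariables false

universe u
open CategoryTheory CategoryTheory.Limits AlgebraicGeometry TopologicalSpace
open Groth.Agent.Helper2.NormFin Groth.Agent.Helper2.NormY
open Groth.Agent.Lib.Helper4.NormalizationField1 Groth.Agent.Lib.Helper4.NormalizationField3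

namespace Groth.Agent.Helper2.InsepNorm

/-- a ring map all of whose target elements have a `q^n`-th power in the range, `q` a prime
vanishing in the target (or `q = 1`), induces a universally injective map on spectra -/
theorem univInj_of_pow_mem {R S : Type u} [CommRing R] [CommRing S] (θ : R →+* S) (q : ℕ)
    (hq : q = 1 ∨ (q.Prime ∧ (q : S) = 0))
    (hP : ∀ b : S, ∃ n : ℕ, ∃ a : R, θ a = b ^ (q ^ n)) :
    UniversallyInjective (Spec.map (CommRingCat.ofHom θ)) := by
  rw [Groth.Agent.Lib.Helper4.GeomUnibranchIC1.univInj_Spec_iff]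
  intro F _ τ₁ τ₂ h
  ext b
  obtain ⟨n, a, ha⟩ := hP b
  have e : τ₁ b ^ (q ^ n) = τ₂ b ^ (q ^ n) := by
    rw [← map_pow, ← map_pow, ← ha]
    exact congrArg (fun ψ => ψ a) h
  rcases hq with hq | ⟨hqp, hq0⟩
  · subst hq
    simpa using e
  · have h0 : (q : F) = 0 := by
      have := congrArg τ₁ hq0
      simpa using this
    haveI : Fact q.Prime := ⟨hqp⟩
    haveI : CharP F q := (CharP.charP_iff_prime_eq_zero hqp).mpr h0
    have h1 : (τ₁ b - τ₂ b) ^ (q ^ n) = 0 := by
      rw [sub_pow_char_pow, e, sub_self]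
    exact sub_eq_zero.mp (pow_eq_zero_iff (pow_ne_zero n hqp.ne_zero) |>.mp h1)

variable {Y : Scheme.{u}} [IsIntegral Y]

/-- sections of `Spec K(Y)` over the preimage of an open containing the generic point -/
noncomputable def secHomK (U : Y.Opens) (hU : genericPoint Y ∈ U) :
    Γ(Spec Y.functionField, (Y.fromSpecStalk (genericPoint Y)) ⁻¹ᵁ U) ⟶ Y.functionField :=
  (Spec Y.functionField).presheaf.map (homOfLE (show (⊤ : (Spec Y.functionField).Opens) ≤
    (Y.fromSpecStalk (genericPoint Y)) ⁻¹ᵁ U from fun t _ => by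
      show (Y.fromSpecStalk (genericPoint Y)) t ∈ U
      rw [fromSpecStalk_genericPoint_apply]; exact hU)).op ≫
    (Scheme.ΓSpecIso Y.functionField).hom

theorem preimageK_eq_top (U : Y.Opens) (hU : genericPoint Y ∈ U) :
    (Y.fromSpecStalk (genericPoint Y)) ⁻¹ᵁ U = ⊤ := by
  ext t
  simp only [Opens.coe_top, Set.mem_univ, iff_true]
  show (Y.fromSpecStalk (genericPoint Y)) t ∈ U
  rw [fromSpecStalk_genericPoint_apply]; exact hU

instance (U : Y.Opens) (hU : genericPoint Y ∈ U) : IsIso (secHomK U hU) := by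
  unfold secHomK
  have : IsIso ((Spec Y.functionField).presheaf.map
      (homOfLE (preimageK_eq_top U hU).ge).op) := by
    have h1 : (homOfLE (preimageK_eq_top U hU).ge) =
        eqToHom (preimageK_eq_top U hU).symm := Subsingleton.elim _ _
    rw [h1]
    infer_instance
  exact IsIso.comp_isIso

theorem secHomK_app (U : Y.Opens) (hU : genericPoint Y ∈ U) :
    (Y.fromSpecStalk (genericPoint Y)).app U ≫ secHomK U hU =
      Y.presheaf.germ U (genericPoint Y) hU := by
  unfold secHomK
  rw [Scheme.fromSpecStalk_app hU]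
  simp only [Category.assoc]
  rw [← Functor.map_comp_assoc]
  have h1 : ((homOfLE (le_top : (Y.fromSpecStalk (genericPoint Y)) ⁻¹ᵁ U ≤ ⊤)).op ≫
      (homOfLE (preimageK_eq_top U hU).ge).op) = 𝟙 _ := Subsingleton.elim _ _
  erw [h1]
  erw [CategoryTheory.Functor.map_id, Category.id_comp]
  have h5 : (Scheme.ΓSpecIso (Y.presheaf.stalk (genericPoint Y))).inv ≫
      (Scheme.ΓSpecIso Y.functionField).hom = 𝟙 _ :=
    Iso.inv_hom_id (Scheme.ΓSpecIso (Y.presheaf.stalk (genericPoint Y)))
  erw [h5, Category.comp_id]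


variable (L : Type u) [Field L] [Algebra Y.functionField L]

theorem secHom_compat (U : Y.Opens) (hU : genericPoint Y ∈ U) :
    (Spec.map (CommRingCat.ofHom (algebraMap Y.functionField L))).appLE
        ((Y.fromSpecStalk (genericPoint Y)) ⁻¹ᵁ U) ((hL (X := Y) L) ⁻¹ᵁ U) (le_of_eq rfl) ≫
      secHom L U hU =
    secHomK U hU ≫ CommRingCat.ofHom (algebraMap Y.functionField L) := by
  unfold secHom secHomK
  rw [Scheme.Hom.appLE_map_assoc, Category.assoc, ← Scheme.ΓSpecIso_naturality]
  have h4 : (Spec.map (CommRingCat.ofHom (algebraMap Y.functionField L))).appTop =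
      (Spec.map (CommRingCat.ofHom (algebraMap Y.functionField L))).appLE ⊤ ⊤ le_top :=
    (Scheme.Hom.appLE_eq_app _).symm
  erw [h4]
  rw [Scheme.Hom.map_appLE_assoc]


theorem appLE_eq_of_eq {P Q : Scheme.{u}} {f g : P ⟶ Q} (h : f = g) (U : Q.Opens) (V : P.Opens)
    (e₁ : V ≤ f ⁻¹ᵁ U) (e₂ : V ≤ g ⁻¹ᵁ U) : f.appLE U V e₁ = g.appLE U V e₂ := by
  subst h; rfl

variable [QuasiCompact (hL (X := Y) L)] [QuasiSeparated (hL (X := Y) L)]
  [QuasiCompact (Y.fromSpecStalk (genericPoint Y))]
  [QuasiSeparated (Y.fromSpecStalk (genericPoint Y))]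

/-- the morphism from the normalization in `L` to the normalization -/
noncomputable def dmap : (hL (X := Y) L).normalization ⟶
    (Y.fromSpecStalk (genericPoint Y)).normalization :=
  (hL (X := Y) L).normalizationDesc
    (Spec.map (CommRingCat.ofHom (algebraMap Y.functionField L)) ≫
      (Y.fromSpecStalk (genericPoint Y)).toNormalization)
    (Y.fromSpecStalk (genericPoint Y)).fromNormalization
    (by rw [Category.assoc, Scheme.Hom.toNormalization_fromNormalization])

theorem dmap_comp : dmap L ≫ (Y.fromSpecStalk (genericPoint Y)).fromNormalization =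
    (hL (X := Y) L).fromNormalization :=
  Scheme.Hom.normalizationDesc_comp _ _ _ _

theorem toNorm_dmap : (hL (X := Y) L).toNormalization ≫ dmap L =
    Spec.map (CommRingCat.ofHom (algebraMap Y.functionField L)) ≫
      (Y.fromSpecStalk (genericPoint Y)).toNormalization :=
  Scheme.Hom.toNormalization_normalizationDesc _ _ _ _

instance : IsIntegralHom (dmap (Y := Y) L) := by
  unfold dmap; infer_instance

theorem dmap_preimage (U : Y.Opens) :
    (dmap L) ⁻¹ᵁ ((Y.fromSpecStalk (genericPoint Y)).fromNormalization ⁻¹ᵁ U) =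
      (hL (X := Y) L).fromNormalization ⁻¹ᵁ U := by
  rw [← Scheme.Hom.comp_preimage, dmap_comp]

variable [IsPurelyInseparable Y.functionField L]

set_option maxHeartbeats 8000000 in
theorem pow_mem_range {U : Y.Opens} (hU : IsAffineOpen U)
    (W : (Y.fromSpecStalk (genericPoint Y)).normalization.Opens)
    (hW : W = (Y.fromSpecStalk (genericPoint Y)).fromNormalization ⁻¹ᵁ U)
    (W' : (hL (X := Y) L).normalization.Opens)
    (hW' : W' = (hL (X := Y) L).fromNormalization ⁻¹ᵁ U)
    (e : W' ≤ (dmap L) ⁻¹ᵁ W) (b : Γ((hL (X := Y) L).normalization, W')) :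
    ∃ n : ℕ, ∃ a : Γ((Y.fromSpecStalk (genericPoint Y)).normalization, W),
      ((dmap L).appLE W W' e).hom a = b ^ (ringExpChar Y.functionField ^ n) := by
  subst hW hW'
  by_cases hne : Nonempty U
  swap
  · have hbot : U = ⊥ := by
      ext x
      simp only [Opens.coe_bot, Set.mem_empty_iff_false, iff_false]
      exact fun hx => hne ⟨⟨x, hx⟩⟩
    subst hbot
    haveI : Subsingleton Γ((hL (X := Y) L).normalization,
        (hL (X := Y) L).fromNormalization ⁻¹ᵁ ⊥) :=
      (inferInstance : Subsingleton Γ((hL (X := Y) L).normalization, ⊥))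
    exact ⟨0, 0, Subsingleton.elim _ _⟩
  have hgen : genericPoint Y ∈ U := by
    obtain ⟨⟨x, hx⟩⟩ := hne
    exact ((genericPoint_spec Y).mem_open_set_iff U.isOpen).mpr ⟨x, trivial, hx⟩
  set q := ringExpChar Y.functionField with hq
  haveI : ExpChar Y.functionField q := ringExpChar.expChar _
  have hinjL : Function.Injective (phi (hL (X := Y) L) U) := phi_injective (hL (X := Y) L) hU
  let σL := secEquiv L U hgen
  let σK : Γ(Spec Y.functionField, (Y.fromSpecStalk (genericPoint Y)) ⁻¹ᵁ U) ≃+* Y.functionField :=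
    (asIso (secHomK U hgen)).commRingCatIsoToRingEquiv
  let μ := ((Spec.map (CommRingCat.ofHom (algebraMap Y.functionField L))).appLE
        ((Y.fromSpecStalk (genericPoint Y)) ⁻¹ᵁ U) ((hL (X := Y) L) ⁻¹ᵁ U) (le_of_eq rfl)).hom
  -- compatibilities
  have hσμ : ∀ r, σL (μ r) = algebraMap Y.functionField L (σK r) := fun r =>
    congrArg (fun ψ => ψ.hom r) (secHom_compat L U hgen)
  have hσK : ∀ a : Γ(Y, U), σK (((Y.fromSpecStalk (genericPoint Y)).app U).hom a) =
      (Y.germToFunctionField U).hom a := fun a =>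
    congrArg (fun ψ => ψ.hom a) (secHomK_app U hgen)
  have hcompat : ∀ a, phi (hL (X := Y) L) U (((dmap L).appLE _ _ e).hom a) =
      μ (phi (Y.fromSpecStalk (genericPoint Y)) U a) := by
    have key : (dmap L).appLE _ _ e ≫ (hL (X := Y) L).toNormalization.appLE
        ((hL (X := Y) L).fromNormalization ⁻¹ᵁ U) ((hL (X := Y) L) ⁻¹ᵁ U)
        (toNormalization_preimage_le (hL (X := Y) L) U) =
        (Y.fromSpecStalk (genericPoint Y)).toNormalization.appLE
          ((Y.fromSpecStalk (genericPoint Y)).fromNormalization ⁻¹ᵁ U)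
          ((Y.fromSpecStalk (genericPoint Y)) ⁻¹ᵁ U)
          (toNormalization_preimage_le (Y.fromSpecStalk (genericPoint Y)) U) ≫
        (Spec.map (CommRingCat.ofHom (algebraMap Y.functionField L))).appLE
          ((Y.fromSpecStalk (genericPoint Y)) ⁻¹ᵁ U) ((hL (X := Y) L) ⁻¹ᵁ U) (le_of_eq rfl) := by
      rw [Scheme.Hom.appLE_comp_appLE, Scheme.Hom.appLE_comp_appLE]
      exact appLE_eq_of_eq (toNorm_dmap L) _ _ _ _
    intro a
    exact congrArg (fun ψ => ψ.hom a) key
  -- the algebra structures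
  letI algAL : Algebra Γ(Y, U) L :=
    ((algebraMap Y.functionField L).comp (Y.germToFunctionField U).hom).toAlgebra
  haveI : IsScalarTower Γ(Y, U) Y.functionField L := IsScalarTower.of_algebraMap_eq fun _ => rfl
  -- integrality of `l`
  have hΛ : ∀ a : Γ(Y, U), σL (phi (hL (X := Y) L) U
      (((hL (X := Y) L).fromNormalization.app U).hom a)) = algebraMap Γ(Y, U) L a := by
    intro a
    rw [fromNormalization_app_toNormalization_appLE (hL (X := Y) L) hU a]
    exact secEquiv_app L U hgen a
  have hbint : ((hL (X := Y) L).fromNormalization.app U).hom.IsIntegralElem b :=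
    IsIntegralHom.isIntegral_app (hL (X := Y) L).fromNormalization U hU b
  have hl : IsIntegral Γ(Y, U) (σL (phi (hL (X := Y) L) U b)) := by
    obtain ⟨p, hp, hpb⟩ := hbint
    refine ⟨p, hp, ?_⟩
    have h1 := congrArg (fun z => σL (phi (hL (X := Y) L) U z)) hpb
    simp only [map_zero] at h1
    rw [← h1]
    have h2 : (algebraMap Γ(Y, U) L) = ((σL : _ →+* L).comp (phi (hL (X := Y) L) U)).comp
        ((hL (X := Y) L).fromNormalization.app U).hom := RingHom.ext fun a => (hΛ a).symm
    rw [h2]
    exact (Polynomial.hom_eval₂ p _ ((σL : _ →+* L).comp (phi (hL (X := Y) L) U)) b).symm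
  obtain ⟨n, k, hk⟩ := IsPurelyInseparable.pow_mem Y.functionField q
    (σL (phi (hL (X := Y) L) U b))
  have hkint : IsIntegral Γ(Y, U) k := by
    rw [← isIntegral_algebraMap_iff (algebraMap Y.functionField L).injective, hk]
    exact hl.pow _
  -- the section of `Spec K`
  have hrint : ((Y.fromSpecStalk (genericPoint Y)).app U).hom.IsIntegralElem (σK.symm k) := by
    obtain ⟨p, hp, hpk⟩ := hkint
    refine ⟨p, hp, σK.injective ?_⟩
    rw [map_zero]
    have h2 : (algebraMap Γ(Y, U) Y.functionField) = (σK : _ →+* Y.functionField).comp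
        ((Y.fromSpecStalk (genericPoint Y)).app U).hom := RingHom.ext fun a => (hσK a).symm
    have h3 := Polynomial.hom_eval₂ p ((Y.fromSpecStalk (genericPoint Y)).app U).hom
      (σK : _ →+* Y.functionField) (σK.symm k)
    rw [← h2] at h3
    simp only [RingEquiv.coe_toRingHom, RingEquiv.apply_symm_apply] at h3
    rw [h3]
    exact hpk
  obtain ⟨a, ha⟩ := exists_section_normalization_of_isIntegral
    (Y.fromSpecStalk (genericPoint Y)) hU (σK.symm k) hrint
  refine ⟨n, a, ?_⟩
  apply hinjL
  apply σL.injective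
  have ha' : phi (Y.fromSpecStalk (genericPoint Y)) U a = σK.symm k := ha
  rw [hcompat, ha', hσμ, RingEquiv.apply_symm_apply, hk, map_pow, map_pow]


omit [IsPurelyInseparable Y.functionField L] in
theorem char_fact {U : Y.Opens} (hU : IsAffineOpen U)
    (W' : (hL (X := Y) L).normalization.Opens)
    (hW' : W' = (hL (X := Y) L).fromNormalization ⁻¹ᵁ U) :
    ringExpChar Y.functionField = 1 ∨ ((ringExpChar Y.functionField).Prime ∧
      ((ringExpChar Y.functionField : ℕ) : Γ((hL (X := Y) L).normalization, W')) = 0) := by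
  subst hW'
  obtain ⟨q, hq, hE⟩ : ∃ q, ringExpChar Y.functionField = q ∧ ExpChar Y.functionField q :=
    ⟨_, rfl, ringExpChar.expChar _⟩
  rw [hq]
  cases hE with
  | zero => exact Or.inl rfl
  | prime hp =>
    refine Or.inr ⟨hp, ?_⟩
    by_cases hne : Nonempty U
    swap
    · have hbot : U = ⊥ := by
        ext x
        simp only [Opens.coe_bot, Set.mem_empty_iff_false, iff_false]
        exact fun hx => hne ⟨⟨x, hx⟩⟩
      subst hbot
      haveI : Subsingleton Γ((hL (X := Y) L).normalization,
          (hL (X := Y) L).fromNormalization ⁻¹ᵁ ⊥) :=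
        (inferInstance : Subsingleton Γ((hL (X := Y) L).normalization, ⊥))
      exact Subsingleton.elim _ _
    have hgen : genericPoint Y ∈ U := by
      obtain ⟨⟨x, hx⟩⟩ := hne
      exact ((genericPoint_spec Y).mem_open_set_iff U.isOpen).mpr ⟨x, trivial, hx⟩
    apply phi_injective (hL (X := Y) L) hU
    apply (secEquiv L U hgen).injective
    rw [map_natCast, map_natCast, map_zero, map_zero]
    have h0 : ((q : ℕ) : Y.functionField) = 0 := CharP.cast_eq_zero _ q
    rw [← map_natCast (algebraMap Y.functionField L), h0, map_zero]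

set_option maxHeartbeats 8000000 in
theorem univInj_dmap : UniversallyInjective (dmap (Y := Y) L) := by
  have hcover : ⨆ i : Y.affineOpens,
      (Y.fromSpecStalk (genericPoint Y)).fromNormalization ⁻¹ᵁ i.1 = ⊤ :=
    Scheme.Hom.iSup_preimage_eq_top _ (iSup_affineOpens_eq_top Y)
  rw [IsZariskiLocalAtTarget.iff_of_iSup_eq_top (P := @UniversallyInjective) _ hcover]
  intro i
  have hW : IsAffineOpen ((Y.fromSpecStalk (genericPoint Y)).fromNormalization ⁻¹ᵁ i.1) :=
    i.2.preimage _
  have hW' : IsAffineOpen ((dmap L) ⁻¹ᵁ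
      ((Y.fromSpecStalk (genericPoint Y)).fromNormalization ⁻¹ᵁ i.1)) := hW.preimage (dmap L)
  haveI : IsAffine ((Y.fromSpecStalk (genericPoint Y)).fromNormalization ⁻¹ᵁ i.1).toScheme := hW
  haveI : IsAffine ((dmap L) ⁻¹ᵁ
      ((Y.fromSpecStalk (genericPoint Y)).fromNormalization ⁻¹ᵁ i.1)).toScheme := hW'
  haveI := UniversallyInjective.respectsIso
  rw [MorphismProperty.arrow_mk_iso_iff @UniversallyInjective
    (arrowIsoSpecΓOfIsAffine
      (dmap L ∣_ ((Y.fromSpecStalk (genericPoint Y)).fromNormalization ⁻¹ᵁ i.1)))]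
  have hW1 : ((Y.fromSpecStalk (genericPoint Y)).fromNormalization ⁻¹ᵁ i.1).ι ''ᵁ ⊤ =
      (Y.fromSpecStalk (genericPoint Y)).fromNormalization ⁻¹ᵁ i.1 := Scheme.Opens.ι_image_top _
  have hW2 : ((dmap L) ⁻¹ᵁ ((Y.fromSpecStalk (genericPoint Y)).fromNormalization ⁻¹ᵁ i.1)).ι ''ᵁ
      ((dmap L ∣_ ((Y.fromSpecStalk (genericPoint Y)).fromNormalization ⁻¹ᵁ i.1)) ⁻¹ᵁ ⊤) =
      (hL (X := Y) L).fromNormalization ⁻¹ᵁ i.1 := by
    rw [Scheme.Hom.preimage_top, Scheme.Opens.ι_image_top, dmap_preimage]
  have happ := morphismRestrict_app' (dmap L)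
    ((Y.fromSpecStalk (genericPoint Y)).fromNormalization ⁻¹ᵁ i.1) ⊤
  show UniversallyInjective (Spec.map (CommRingCat.ofHom
    (dmap L ∣_ ((Y.fromSpecStalk (genericPoint Y)).fromNormalization ⁻¹ᵁ i.1)).appTop.hom))
  refine univInj_of_pow_mem
    (dmap L ∣_ ((Y.fromSpecStalk (genericPoint Y)).fromNormalization ⁻¹ᵁ i.1)).appTop.hom
    (ringExpChar Y.functionField) ?_ ?_
  · exact char_fact L i.2 _ hW2
  · intro b
    obtain ⟨n, a, ha⟩ := pow_mem_range L i.2 _ hW1 _ hW2
      (image_morphismRestrict_preimage (dmap L) _ ⊤).le b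
    exact ⟨n, a, (congrArg (fun ψ => ψ.hom a) happ).trans ha⟩


theorem main (hY : ∀ y : Y, CAlg2.IsGeomUnibranch (Y.presheaf.stalk y)) :
    FlatMor.IsUnivHomeo (hL (X := Y) L).fromNormalization := by
  have h1 : FlatMor.IsUnivHomeo (Curv2.normalizationι Y) :=
    Groth.Agent.Lib.Helper4.UnivHomeoNorm1.main Y hY
  have h2 : UniversallyInjective (Y.fromSpecStalk (genericPoint Y)).fromNormalization :=
    Groth.Agent.Helper9.UH.universallyInjective_of_isUnivHomeo _ h1
  have h3 : UniversallyInjective (dmap (Y := Y) L) := univInj_dmap L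
  haveI : UniversallyInjective (hL (X := Y) L).fromNormalization := by
    rw [← dmap_comp L]
    exact MorphismProperty.comp_mem _ _ _ h3 h2
  haveI : Surjective (hL (X := Y) L).fromNormalization :=
    surjective_fromNormalization (CommRingCat.of L) (inferInstance : Field L).toIsField
      (hL (X := Y) L) (hL_apply L)
  exact Groth.Agent.Helper9.UH.isUnivHomeo_of _

end Groth.Agent.Helper2.InsepNorm
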